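import Cfsg.Agent.S2568
import Cfsg.Agent.Lib.FormTorus.Dual

/-!
Classes of elements of prime order in a classical group with prescribed duality of the eigenvalues.
-/

set_option autoImplicit false

namespace Cfsg.Agent.DualClassCount

open Polynomial FormTorus

variable {F : Type*} [Field F] {σ : F →+* F}

theorem dualPoly_one : dualPoly σ (1 : F[X]) = 1 := by
  rw [dualPoly, Polynomial.map_one, coeff_one_zero, ← C_1, reverse_C, C_1, one_mul, map_one σ, inv_one, C_1]

/-- `dualPoly` as a monoid homomorphism. -/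
noncomputable def dualHom (σ : F →+* F) : F[X] →* F[X] where
  toFun := dualPoly σ
  map_one' := dualPoly_one
  map_mul' := dualPoly_mul

theorem dualHom_apply (f : F[X]) : dualHom σ f = dualPoly σ f := rfl

theorem dual_X_sub_one : dualPoly σ (X - C 1 : F[X]) = X - C 1 := by
  have h0 : (X - C 1 : F[X]).coeff 0 ≠ 0 := by simp
  ext i
  rw [coeff_dualPoly _ h0, natDegree_X_sub_C]
  rcases i with _ | _ | i
  · rw [revAt_le (by omega)]; simp [coeff_one]
  · rw [revAt_le (by omega)]; simp [coeff_one]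
  · rw [revAt_eq_self_of_lt (by omega)]
    simp [coeff_X, coeff_one]

/-- The characteristic polynomial of a twisted inverse. -/
theorem charpoly_map_inv {n : Type*} [Fintype n] [DecidableEq n] (M : Matrix n n F) (hM : IsUnit M) :
    (M.map σ)⁻¹.charpoly = dualPoly σ M.charpoly := by
  have hu : IsUnit (M.map σ) := hM.map σ.mapMatrix
  rw [Matrix.charpoly_inv _ hu, ← Matrix.reverse_charpoly, Matrix.charpoly_map, dualPoly, mul_comm]
  congr 1
  rw [show ((-1 : F[X]) ^ Fintype.card n) = C ((-1) ^ Fintype.card n) by simp, ← C_mul]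
  congr 1
  have hd : (M.map σ).det = σ M.det := by rw [← RingHom.mapMatrix_apply, ← RingHom.map_det]
  have hd0 : M.det ≠ 0 := ((Matrix.isUnit_iff_isUnit_det M).1 hM).ne_zero
  have hs : ((-1 : F) ^ Fintype.card n) * (-1) ^ Fintype.card n = 1 := by
    rw [← mul_pow]; simp
  rw [hd, Ring.inverse_eq_inv', show M.charpoly.coeff 0 = (-1) ^ Fintype.card n * M.det by
    rw [Matrix.det_eq_sign_charpoly_coeff M, ← mul_assoc, hs, one_mul], map_mul, map_pow, map_neg,
    map_one, mul_inv, ← inv_pow, inv_neg, inv_one]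

variable [Fintype F]

theorem root_facts {p r : ℕ} [Fact p.Prime] [CharP F p] (hr : r.Prime) (hrp : r ≠ p) {P : F[X]}
    [Fact (Irreducible P)] (hP : P ∣ cyclotomic r F) :
    orderOf (AdjoinRoot.root P) = r := by
  haveI := Fact.mk hr
  refine orderOf_eq_prime ?_ fun h1 => ?_
  · have h : aeval (AdjoinRoot.root P) (X ^ r - 1 : F[X]) = 0 := by
      obtain ⟨c, hc⟩ := hP
      rw [← cyclotomic_prime_mul_X_sub_one F r, hc, map_mul, map_mul, AdjoinRoot.aeval_eq,
        AdjoinRoot.mk_self, zero_mul, zero_mul]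
    simpa [sub_eq_zero] using h
  · obtain ⟨c, hc⟩ := hP
    have h : aeval (AdjoinRoot.root P) (cyclotomic r F) = 0 := by
      rw [hc, map_mul, AdjoinRoot.aeval_eq, AdjoinRoot.mk_self, zero_mul]
    rw [h1, aeval_def, eval₂_at_one, eval_one_cyclotomic_prime, map_natCast] at h
    rw [← map_natCast (algebraMap F (AdjoinRoot P)), map_eq_zero, CharP.cast_eq_zero_iff F p,
      Nat.prime_dvd_prime_iff_eq (Fact.out : p.Prime) hr] at h
    exact hrp h.symm

theorem minpoly_root {P : F[X]} [Fact (Irreducible P)] (hm : P.Monic) :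
    minpoly F (AdjoinRoot.root P) = P := by
  rw [AdjoinRoot.minpoly_root hm.ne_zero, hm.leadingCoeff, inv_one, C_1, mul_one]

section Irr

variable {p f Q r : ℕ} [hp : Fact p.Prime] [CharP F p] (hσ : ∀ c, σ c = c ^ Q) (hQ : Q = p ^ f)

include hσ hQ

/-- The dual of a cyclotomic factor is the minimal polynomial of `λ^{-Q}`. -/
theorem dualPoly_eq_minpoly (hr : r.Prime) (hrp : r ≠ p) {P : F[X]} [Fact (Irreducible P)]
    (hm : P.Monic) (hP : P ∣ cyclotomic r F) (hdeg : ∀ R : F[X], Irreducible R → R ∣ cyclotomic r F →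
      R.natDegree = P.natDegree) :
    dualPoly σ P = minpoly F ((AdjoinRoot.root P ^ Q)⁻¹) ∧
      minpoly F ((AdjoinRoot.root P ^ Q)⁻¹) ∣ cyclotomic r F := by
  have hfin : Module.Finite F (AdjoinRoot P) := hm.finite_adjoinRoot
  haveI : Finite (AdjoinRoot P) := Module.finite_of_finite F
  haveI : CharP (AdjoinRoot P) p := charP_of_injective_algebraMap (algebraMap F (AdjoinRoot P)).injective p
  haveI : ExpChar (AdjoinRoot P) p := ExpChar.prime hp.out
  set lam := AdjoinRoot.root P with hlam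
  have ho : orderOf lam = r := root_facts hr hrp hP
  have hl0 : lam ≠ 0 := fun h => by
    have := pow_orderOf_eq_one lam
    rw [ho, h, zero_pow hr.ne_zero] at this
    exact zero_ne_one this
  have hP0 : P.coeff 0 ≠ 0 := fun h => by
    have : P ∣ cyclotomic r F := hP
    have h2 : (cyclotomic r F).coeff 0 = 0 := by
      obtain ⟨c, hc⟩ := this
      rw [hc, mul_coeff_zero, h, zero_mul]
    rw [cyclotomic_coeff_zero F hr.one_lt] at h2
    exact one_ne_zero h2
  let φ : AdjoinRoot P →+* AdjoinRoot P := iterateFrobenius (AdjoinRoot P) p f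
  have hφ : ∀ z, φ z = z ^ Q := fun z => by rw [hQ]; exact iterateFrobenius_def _ _ _
  have hcomp : (algebraMap F (AdjoinRoot P)).comp σ = φ.comp (algebraMap F (AdjoinRoot P)) :=
    RingHom.ext fun c => by simp [hσ, hφ]
  have h1 : eval₂ (algebraMap F (AdjoinRoot P)) (lam ^ Q) (P.map σ) = 0 := by
    rw [eval₂_map, hcomp, ← hφ, ← hom_eval₂, ← aeval_def, AdjoinRoot.aeval_eq, AdjoinRoot.mk_self,
      map_zero]
  have hz : lam ^ Q ≠ 0 := pow_ne_zero _ hl0
  letI : Invertible (lam ^ Q) := invertibleOfNonzero hz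
  have h2 := (eval₂_reverse_eq_zero_iff (algebraMap F (AdjoinRoot P)) (lam ^ Q) (P.map σ)).2 h1
  rw [invOf_eq_inv] at h2
  have hmu : aeval (lam ^ Q)⁻¹ (dualPoly σ P) = 0 := by
    rw [dualPoly, map_mul, aeval_def, h2, zero_mul]
  have hint : IsIntegral F (lam ^ Q)⁻¹ := IsIntegral.of_finite F _
  haveI := Fact.mk hr
  have hdvd : minpoly F (lam ^ Q)⁻¹ ∣ cyclotomic r F := by
    refine minpoly.dvd F _ ?_
    have hpow : ((lam ^ Q)⁻¹) ^ r = 1 := by
      rw [inv_pow, ← pow_mul, mul_comm, pow_mul, ← ho, pow_orderOf_eq_one, one_pow, inv_one]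
    have hne : (lam ^ Q)⁻¹ ≠ 1 := fun h => by
      rw [inv_eq_one, ← orderOf_dvd_iff_pow_eq_one, ho, hQ] at h
      exact hrp ((Nat.prime_dvd_prime_iff_eq hr hp.out).1 (hr.dvd_of_dvd_pow h))
    have h := congrArg (aeval ((lam ^ Q)⁻¹)) (cyclotomic_prime_mul_X_sub_one F r)
    rw [map_mul, map_sub, map_sub, map_pow, aeval_X, map_one, hpow, sub_self] at h
    exact (mul_eq_zero.1 h).resolve_right (sub_ne_zero.2 hne)
  refine ⟨?_, hdvd⟩
  refine (eq_of_monic_of_dvd_of_natDegree_le (minpoly.monic hint) (monic_dualPoly hP0)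
    (minpoly.dvd F _ hmu) ?_)
  rw [natDegree_dualPoly hP0, hdeg _ (minpoly.irreducible hint) hdvd]

/-- A factor is self-dual exactly when `-Q` is a power of the field order modulo `r`. -/
theorem dualPoly_eq_self_iff (hr : r.Prime) (hrp : r ≠ p) {P : F[X]} [Fact (Irreducible P)]
    (hm : P.Monic) (hP : P ∣ cyclotomic r F) (hdeg : ∀ R : F[X], Irreducible R → R ∣ cyclotomic r F →
      R.natDegree = P.natDegree) :
    dualPoly σ P = P ↔ ∃ k, (Fintype.card F : ZMod r) ^ k = -(Q : ZMod r) := by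
  obtain ⟨hd, -⟩ := dualPoly_eq_minpoly hσ hQ hr hrp hm hP hdeg
  have hfin : Module.Finite F (AdjoinRoot P) := hm.finite_adjoinRoot
  haveI : Finite (AdjoinRoot P) := Module.finite_of_finite F
  set lam := AdjoinRoot.root P with hlam
  have ho : orderOf lam = r := root_facts hr hrp hP
  have hl0 : lam ≠ 0 := fun h => by
    have := pow_orderOf_eq_one lam
    rw [ho, h, zero_pow hr.ne_zero] at this
    exact zero_ne_one this
  have hexp : ∀ k : ℕ, lam ^ (Fintype.card F ^ k) = (lam ^ Q)⁻¹ ↔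
      (Fintype.card F : ZMod r) ^ k = -(Q : ZMod r) := by
    intro k
    rw [← mul_eq_one_iff_eq_inv₀ (pow_ne_zero _ hl0), ← pow_add, ← orderOf_dvd_iff_pow_eq_one, ho,
      ← ZMod.natCast_eq_zero_iff, Nat.cast_add, Nat.cast_pow, add_eq_zero_iff_eq_neg]
  constructor
  · intro h
    rw [hd] at h
    have hc : IsConjRoot F ((lam ^ Q)⁻¹) lam := by
      rw [IsConjRoot, h, minpoly_root hm]
    haveI : Normal F (AdjoinRoot P) := IsGalois.to_normal
    obtain ⟨g, hg⟩ := isConjRoot_iff_exists_algEquiv.1 hc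
    obtain ⟨k, hk⟩ := (FiniteField.bijective_frobeniusAlgEquivOfAlgebraic_pow F (AdjoinRoot P)).2 g
    refine ⟨k, (hexp k).1 ?_⟩
    rw [← hg, ← hk, AlgEquiv.coe_pow, FiniteField.coe_frobeniusAlgEquivOfAlgebraic_iterate]
  · rintro ⟨k, hk⟩
    rw [hd, ← (hexp k).2 hk]
    conv_rhs => rw [← minpoly_root hm]
    have h : lam ^ (Fintype.card F ^ k) =
        ((FiniteField.frobeniusAlgEquivOfAlgebraic F (AdjoinRoot P)) ^ k) lam := by
      rw [AlgEquiv.coe_pow, FiniteField.coe_frobeniusAlgEquivOfAlgebraic_iterate]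
    rw [h, minpoly.algEquiv_eq]

end Irr

end Cfsg.Agent.DualClassCount
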