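import Cfsg.Agent.Lib.DualClassCount.Basic

/-!
Counting classes of elements of prime order whose characteristic polynomial is self-dual.
-/

set_option autoImplicit false
set_option maxHeartbeats 800000

namespace Cfsg.Agent.DualClassCount

open Polynomial FormTorus Cfsg.Agent.S2568

variable {F : Type*} [Field F] [Fintype F]

/-- Invariant bounded functions under an involution. -/
theorem card_invariant {T : Type*} [Fintype T] [DecidableEq T] (τ : T → T) (hτ : ∀ x, τ (τ x) = x)
    (hfree : ∀ x, τ x ≠ x) (N : ℕ) :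
    Nat.card {a : T → ℕ // ∑ x, a x ≤ N ∧ ∀ x, a (τ x) = a x} =
      (N / 2 + Fintype.card T / 2).choose (Fintype.card T / 2) := by
  classical
  let e := Fintype.equivFin T
  let H : Finset T := Finset.univ.filter fun x => e x < e (τ x)
  have hmem : ∀ x, x ∈ H ↔ e x < e (τ x) := fun x => by simp [H]
  have hτH : ∀ x, τ x ∈ H ↔ x ∉ H := fun x => by
    rw [hmem, hmem, hτ]
    exact ⟨fun h h' => lt_asymm h h',
      fun h => lt_of_le_of_ne (not_lt.1 h) fun h' => hfree x (e.injective h')⟩
  have hcompl : ∀ g : T → ℕ, ∑ x, g x = ∑ x ∈ H, (g x + g (τ x)) := fun g => by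
    rw [Finset.sum_add_distrib, ← Finset.sum_add_sum_compl H g]
    congr 1
    refine Finset.sum_bij' (fun x _ => τ x) (fun x _ => τ x) ?_ ?_ (fun x _ => hτ x) (fun x _ => hτ x)
      fun x _ => by rw [hτ]
    · intro x hx; exact (hτH x).2 (Finset.mem_compl.1 hx)
    · intro x hx; exact Finset.mem_compl.2 fun h => (hτH x).1 h hx
  have hcard : Fintype.card T / 2 = Fintype.card H := by
    have h := hcompl fun _ => 1
    simp only [Finset.sum_const, smul_eq_mul, Finset.card_univ, mul_one] at h
    rw [Fintype.card_coe]; omega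
  rw [hcard, ← card_bounded_sum H (N / 2)]
  refine Nat.card_congr
    { toFun := fun a => ⟨fun x => a.1 x, ?_⟩
      invFun := fun b => ⟨fun x => if h : x ∈ H then b.1 ⟨x, h⟩ else b.1 ⟨τ x, (hτH x).2 h⟩, ?_, ?_⟩
      left_inv := fun a => ?_
      right_inv := fun b => ?_ }
  · have h := a.2.1
    rw [hcompl, Finset.sum_congr rfl (fun x _ => by rw [a.2.2 x, ← two_mul]), ← Finset.mul_sum,
      ← Finset.sum_coe_sort H] at h
    show ∑ x : H, a.1 x ≤ N / 2
    omega
  · have h := b.2
    rw [hcompl, ← Finset.sum_coe_sort H]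
    have e2 : ∀ x : H, ((if h : (x : T) ∈ H then b.1 ⟨x, h⟩ else b.1 ⟨τ x, (hτH x).2 h⟩) +
        if h : τ x ∈ H then b.1 ⟨τ x, h⟩ else b.1 ⟨τ (τ x), (hτH _).2 h⟩) = 2 * b.1 x := fun x => by
      rw [dif_pos x.2, dif_neg (fun h => (hτH x).1 h x.2), two_mul]
      congr 1
      exact congrArg b.1 (Subtype.ext (hτ _))
    rw [Finset.sum_congr rfl (fun x _ => e2 x), ← Finset.mul_sum]
    omega
  · intro x
    show (if h : τ x ∈ H then _ else _) = if h : x ∈ H then _ else _
    by_cases h : x ∈ H
    · rw [dif_pos h, dif_neg (fun h' => (hτH x).1 h' h)]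
      exact congrArg b.1 (Subtype.ext (hτ x))
    · rw [dif_neg h, dif_pos ((hτH x).2 h)]
  · refine Subtype.ext (funext fun x => ?_)
    by_cases h : x ∈ H
    · exact dif_pos h
    · simp only [dif_neg h]; exact a.2.2 x
  · refine Subtype.ext (funext fun x => ?_)
    exact dif_pos x.2

/-- **Classes of elements of order `r` with self-dual characteristic polynomial.** -/
theorem card_classes {G : Type*} [Group G] {p f Q N r i t : ℕ} [Fact p.Prime] [CharP F p]
    (σ : F →+* F) (hσ : ∀ c, σ c = c ^ Q) (hσσ : ∀ c, σ (σ c) = c) (hQ : Q = p ^ f)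
    (hr : r.Prime) (hrp : r ≠ p) (hi : i = orderOf (Fintype.card F : ZMod r)) (ht : t * i = r - 1)
    (ι : G →* GL (Fin N) F) (hinj : Function.Injective ι)
    (hconj : ∀ a b : G, orderOf a = r → orderOf b = r → IsConj (ι a) (ι b) → IsConj a b)
    (hnec : ∀ g : G, orderOf g = r → dualPoly σ (ι g).1.charpoly = (ι g).1.charpoly)
    (hsuf : ∀ x : GL (Fin N) F, orderOf x = r → dualPoly σ x.1.charpoly = x.1.charpoly →
      ∃ g : G, IsConj x (ι g)) :
    ((∃ k, (Fintype.card F : ZMod r) ^ k = -(Q : ZMod r)) →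
      Nat.card {C : ConjClasses G // ∃ g : G, ConjClasses.mk g = C ∧ orderOf g = r} =
        (N / i + t).choose t - 1) ∧
    ((¬ ∃ k, (Fintype.card F : ZMod r) ^ k = -(Q : ZMod r)) →
      Nat.card {C : ConjClasses G // ∃ g : G, ConjClasses.mk g = C ∧ orderOf g = r} =
        (N / (2 * i) + t / 2).choose (t / 2) - 1) := by
  have hF : Fintype.card F = Fintype.card F := rfl
  obtain ⟨q, hqdef⟩ : ∃ q, Fintype.card F = q := ⟨_, rfl⟩
  rw [hqdef] at hi
  replace hF := hqdef
  let n := N

  classical
  have := Fact.mk hr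
  obtain ⟨f₀, -, hcard⟩ := FiniteField.card F p
  have hco : p.Coprime r := (Nat.coprime_primes Fact.out hr).2 (Ne.symm hrp)
  have hi0 : 0 < i := by
    rw [hi, orderOf_pos_iff, isOfFinOrder_iff_pow_eq_one]
    have hq0 : (q : ZMod r) ≠ 0 := by
      rw [← hF, hcard, Nat.cast_pow]
      exact pow_ne_zero _ (by
        rw [Ne, ZMod.natCast_eq_zero_iff, Nat.prime_dvd_prime_iff_eq hr Fact.out]; exact hrp)
    exact ⟨r - 1, by have := hr.two_le; omega, ZMod.pow_card_sub_one_eq_one hq0⟩
  let Φ : F[X] := cyclotomic r F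
  let R : F[X] := X ^ r - 1
  have hR : R = Φ * (X - C 1) := by rw [map_one]; exact (cyclotomic_prime_mul_X_sub_one F r).symm
  have hr0 : (r : F) ≠ 0 := by
    rw [Ne, CharP.cast_eq_zero_iff F p, Nat.prime_dvd_prime_iff_eq Fact.out hr]
    exact fun h => hrp h.symm
  have hRsq : Squarefree R := by
    have := (separable_X_pow_sub_C (1 : F) hr0 one_ne_zero).squarefree
    rwa [map_one] at this
  have hΦ0 : Φ ≠ 0 := cyclotomic_ne_zero r F
  let T : Finset F[X] := (UniqueFactorizationMonoid.normalizedFactors Φ).toFinset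
  have hT : ∀ P ∈ T, Irreducible P ∧ P.Monic ∧ P ∣ Φ := fun P hP => by
    have hP' := Multiset.mem_toFinset.1 hP
    have hirr := UniqueFactorizationMonoid.irreducible_of_normalized_factor P hP'
    refine ⟨hirr, ?_, UniqueFactorizationMonoid.dvd_of_mem_normalizedFactors hP'⟩
    rw [← UniqueFactorizationMonoid.normalize_normalized_factor P hP']
    exact monic_normalize hirr.ne_zero
  have hdeg : ∀ P ∈ T, P.natDegree = i := fun P hP => by
    have h := natDegree_of_dvd_cyclotomic_of_irreducible (K := F) (f := (f₀ : ℕ)) hcard hco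
      (hT P hP).2.2 (hT P hP).1
    rw [h, ← orderOf_units, ZMod.coe_unitOfCoprime, ← hcard, hF, hi]
  have hX : (X - C 1 : F[X]) ∉ T := fun h => by
    have := (hT _ h).2.2
    rw [dvd_iff_isRoot, IsRoot, eval_one_cyclotomic_prime] at this
    exact hr0 this
  have hTcard : T.card = t := by
    have hsq : Squarefree Φ := hRsq.squarefree_of_dvd ⟨_, hR⟩
    have hnd := (UniqueFactorizationMonoid.squarefree_iff_nodup_normalizedFactors hΦ0).1 hsq
    have hprod := UniqueFactorizationMonoid.prod_normalizedFactors_eq hΦ0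
    rw [(cyclotomic.monic r F).normalize_eq_self] at hprod
    have h1 : Φ.natDegree = T.card * i := by
      have e : (∏ P ∈ T, P) = Φ := by
        conv_rhs => rw [show Φ = cyclotomic r F from rfl, ← hprod]
        rw [Finset.prod_eq_multiset_prod, Multiset.toFinset_val, hnd.dedup, Multiset.map_id']
      rw [← e, natDegree_prod_of_monic _ _ fun P hP => (hT P hP).2.1,
        Finset.sum_congr rfl hdeg, Finset.sum_const, smul_eq_mul]
    rw [natDegree_cyclotomic, Nat.totient_prime hr] at h1
    exact Nat.eq_of_mul_eq_mul_right hi0 (h1.symm.trans ht.symm)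
  have hXR : (X - C 1) ∣ R := ⟨Φ, by rw [hR, mul_comm]⟩
  have hTR : ∀ P ∈ T, P ∣ R := fun P hP => (hT P hP).2.2.trans ⟨_, hR⟩
  let A := {a : T → ℕ // ∑ x, a x ≤ n / i}
  let A' := {a : A // a.1 ≠ 0}
  have hAle : ∀ a : A, i * ∑ x, a.1 x ≤ n := fun a =>
    le_trans (Nat.mul_le_mul_left i a.2) (Nat.mul_div_le n i)
  have hR0 : R.coeff 0 ≠ 0 := by
    show (X ^ r - 1 : F[X]).coeff 0 ≠ 0
    simp [hr.ne_zero.symm]
  have props : ∀ a : A, (polyOf T i n a.1).Monic ∧ (polyOf T i n a.1).natDegree = n ∧
      ∃ N, polyOf T i n a.1 ∣ R ^ N := fun a =>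
    polyOf_props (fun P hP => (hT P hP).2.1) hdeg hXR hTR a.1 (hAle a)
  have hc0 : ∀ a : A, (polyOf T i n a.1).coeff 0 ≠ 0 := fun a h => by
    obtain ⟨N, c, hc⟩ := (props a).2.2
    have := congrArg (fun Q : F[X] => Q.coeff 0) hc
    simp only [coeff_zero_eq_eval_zero, eval_pow, eval_mul] at this
    rw [← coeff_zero_eq_eval_zero (polyOf T i n a.1), h, zero_mul, ← coeff_zero_eq_eval_zero] at this
    exact pow_ne_zero _ hR0 this
  choose g hg hgf using fun a : A =>
    Cfsg.Agent.S2387.exists_charpoly (p := p) (polyOf T i n a.1) (props a).1 (props a).2.1 (hc0 a)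
  have hone : (1 : GL (Fin n) F).1.charpoly = (X - C 1) ^ n := by
    rw [Units.val_one, Matrix.charpoly_one, Fintype.card_fin, map_one]
  have hcount : ∀ (a : T → ℕ) (y : T), Multiset.count (y : F[X])
      (UniqueFactorizationMonoid.normalizedFactors (polyOf T i n a)) = a y :=
    fun a y => polyOf_count (fun P hP => (hT P hP).1) (fun P hP => (hT P hP).2.1) hX a y
  have hzero : polyOf T i n 0 = (X - C 1) ^ n := by simp [polyOf]
  have hord : ∀ a : A', orderOf (g a.1) = r := fun a => by
    refine orderOf_eq_prime ?_ ?_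
    · have hss := Cfsg.Agent.S2387.pPrime_isSemisimple (g a.1) (hg a.1)
      have hsq := hss.minpoly_squarefree
      obtain ⟨N, hN⟩ := (props a.1).2.2
      rw [← hgf a.1] at hN
      have hd : minpoly F (Matrix.toLinAlgEquiv' (g a.1).1) ∣ R ^ (N + 1) := by
        rw [minpoly.algEquiv_eq]
        exact (Matrix.minpoly_dvd_charpoly _).trans (hN.trans (pow_dvd_pow _ (Nat.le_succ N)))
      have h2 := (hsq.dvd_pow_iff_dvd (Nat.succ_ne_zero N)).1 hd
      obtain ⟨c, hc⟩ := h2
      have := congrArg (aeval (Matrix.toLinAlgEquiv' (g a.1).1)) hc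
      rw [map_mul, minpoly.aeval, zero_mul] at this
      simp only [R, map_sub, map_pow, aeval_X, map_one, sub_eq_zero] at this
      rw [← map_pow, ← map_one (Matrix.toLinAlgEquiv' (R := F) (n := Fin n))] at this
      apply Units.ext
      rw [Units.val_pow_eq_pow_val, Units.val_one]
      exact (Matrix.toLinAlgEquiv' (R := F) (n := Fin n)).injective this
    · intro h1
      apply a.2
      funext y
      have := hgf a.1
      rw [h1, hone, ← hzero] at this
      rw [← hcount a.1.1 y, ← this, hcount]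
  have hTirr : ∀ P : T, Fact (Irreducible (P : F[X])) := fun P => ⟨(hT _ P.2).1⟩
  have hcycdeg : ∀ R : F[X], Irreducible R → R ∣ cyclotomic r F → R.natDegree = i := fun R hR hd => by
    rw [natDegree_of_dvd_cyclotomic_of_irreducible (K := F) (f := (f₀ : ℕ)) hcard hco hd hR,
      ← orderOf_units, ZMod.coe_unitOfCoprime, ← hcard, hF, hi]
  have hτmem : ∀ P : T, dualPoly σ (P : F[X]) ∈ T := fun P => by
    haveI := hTirr P
    obtain ⟨hd, hdvd⟩ := dualPoly_eq_minpoly hσ hQ hr hrp (hT _ P.2).2.1 (hT _ P.2).2.2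
      (fun R h1 h2 => (hcycdeg R h1 h2).trans (hdeg _ P.2).symm)
    haveI : Module.Finite F (AdjoinRoot (P : F[X])) := (hT _ P.2).2.1.finite_adjoinRoot
    haveI : Finite (AdjoinRoot (P : F[X])) := Module.finite_of_finite F
    set R := minpoly F ((AdjoinRoot.root (P : F[X]) ^ Q)⁻¹) with hR'
    have hint : IsIntegral F ((AdjoinRoot.root (P : F[X]) ^ Q)⁻¹) := IsIntegral.of_finite F _
    obtain ⟨R', hR'', hass⟩ := UniqueFactorizationMonoid.exists_mem_normalizedFactors_of_dvd hΦ0
      (minpoly.irreducible hint) hdvd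
    rw [hd, show R = R' from eq_of_monic_of_associated (minpoly.monic hint)
      (hT R' (Multiset.mem_toFinset.2 hR'')).2.1 hass]
    exact Multiset.mem_toFinset.2 hR''
  let τ : T → T := fun P => ⟨dualPoly σ (P : F[X]), hτmem P⟩
  have hτ : ∀ P, τ (τ P) = P := fun P => by
    refine Subtype.ext (dualPoly_dualPoly hσσ (hT _ P.2).2.1 fun h => ?_)
    obtain ⟨c, hc⟩ := (hT _ P.2).2.2
    have h2 := congrArg (fun R : F[X] => R.coeff 0) hc
    simp only [mul_coeff_zero, h, zero_mul, Φ, cyclotomic_coeff_zero F hr.one_lt] at h2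
    exact one_ne_zero h2
  let τe : Equiv.Perm T := ⟨τ, τ, hτ, hτ⟩
  have hdual : ∀ a : T → ℕ, dualPoly σ (polyOf T i n a) = polyOf T i n (fun P => a (τ P)) := fun a => by
    have hs : ∑ x, a (τ x) = ∑ x, a x := Equiv.sum_comp τe a
    simp only [polyOf, hs]
    rw [← dualHom_apply, map_mul, map_pow, map_prod, dualHom_apply, dual_X_sub_one]
    congr 1
    rw [← Equiv.prod_comp τe]
    refine Finset.prod_congr rfl fun x _ => ?_
    rw [map_pow, dualHom_apply]
    congr 1
    exact congrArg Subtype.val (hτ x)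
  let B := {a : A // ∀ x, a.1 (τ x) = a.1 x}
  let B' := {a : A' // ∀ x, a.1.1 (τ x) = a.1.1 x}
  have hchar : ∀ x y : GL (Fin n) F, IsConj x y → x.1.charpoly = y.1.charpoly := fun x y h => by
    obtain ⟨c, hc⟩ := isConj_iff.1 h
    rw [← hc, Units.val_mul, Units.val_mul, Matrix.coe_units_inv, Matrix.charpoly_units_conj]
  have hpre : ∀ a : B', ∃ h : G, IsConj (g a.1.1) (ι h) := fun a => hsuf _ (hord a.1) (by
    rw [hgf, hdual]; exact congrArg _ (funext a.2))
  choose h hh using hpre
  have hordh : ∀ a : B', orderOf (h a) = r := fun a => by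
    rw [← orderOf_injective ι hinj, ← hord a.1]
    obtain ⟨c, hc⟩ := isConj_iff.1 (hh a)
    rw [← hc, ← MulAut.conj_apply, MulEquiv.orderOf_eq]
  let Φmap : B' → {C : ConjClasses G // ∃ g : G, ConjClasses.mk g = C ∧ orderOf g = r} :=
    fun a => ⟨ConjClasses.mk (h a), h a, rfl, hordh a⟩
  have hbij : Function.Bijective Φmap := by
    constructor
    · intro a b hab
      have h' := hchar _ _ (((hh a).trans (ι.map_isConj
        (ConjClasses.mk_eq_mk_iff_isConj.1 (congrArg Subtype.val hab)))).trans (hh b).symm)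
      rw [hgf, hgf] at h'
      refine Subtype.ext (Subtype.ext (Subtype.ext (funext fun y => ?_)))
      rw [← hcount a.1.1.1 y, h', hcount]
    · rintro ⟨C, x₀, rfl, hx₀⟩
      set x := ι x₀ with hxdef
      have hx : orderOf x = r := by rw [hxdef, orderOf_injective ι hinj, hx₀]
      have hxr : x.1 ^ r = 1 := by
        rw [← Units.val_pow_eq_pow_val, ← hx, pow_orderOf_eq_one]; rfl
      have hxco : (orderOf x).Coprime p := by rw [hx]; exact hco.symm
      set P := x.1.charpoly with hP
      have hPm : P.Monic := x.1.charpoly_monic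
      have hfac : ∀ Q ∈ UniqueFactorizationMonoid.normalizedFactors P, Q = X - C 1 ∨ Q ∈ T := by
        intro Q hQ
        have hirr := UniqueFactorizationMonoid.irreducible_of_normalized_factor Q hQ
        have hQm : Q.Monic := by
          rw [← UniqueFactorizationMonoid.normalize_normalized_factor Q hQ]
          exact monic_normalize hirr.ne_zero
        have hQP := UniqueFactorizationMonoid.dvd_of_mem_normalizedFactors hQ
        have hQR : Q ∣ R := dvd_X_pow_sub_one hxr hirr hQP
        rw [hR] at hQR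
        rcases hirr.prime.dvd_or_dvd hQR with h | h
        · right
          obtain ⟨Q', hQ', hass⟩ :=
            UniqueFactorizationMonoid.exists_mem_normalizedFactors_of_dvd hΦ0 hirr h
          have : Q = Q' := eq_of_monic_of_associated hQm
            (hT Q' (Multiset.mem_toFinset.2 hQ')).2.1 hass
          rw [this]; exact Multiset.mem_toFinset.2 hQ'
        · left
          exact eq_of_monic_of_associated hQm (monic_X_sub_C _)
            ((hirr.associated_of_dvd (irreducible_X_sub_C _)) h)
      set s := UniqueFactorizationMonoid.normalizedFactors P with hs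
      let a : T → ℕ := fun y => s.count (y : F[X])
      have hsplit : s = Multiset.replicate (s.count (X - C 1)) (X - C 1) +
          ∑ y : T, Multiset.replicate (a y) (y : F[X]) := by
        ext Q
        rw [Multiset.count_add, Multiset.count_replicate, Multiset.count_sum']
        simp only [Multiset.count_replicate, a]
        by_cases hQ : Q ∈ T
        · rw [if_neg (fun h => hX (by rw [h]; exact hQ)), zero_add, Finset.sum_eq_single ⟨Q, hQ⟩]
          · simp
          · intro z _ hz; rw [if_neg (fun h => hz (Subtype.ext h))]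
          · simp
        · rw [Finset.sum_eq_zero (fun z _ => if_neg (fun h => hQ (by rw [← h]; exact z.2))), add_zero]
          split_ifs with h
          · rw [h]
          · rw [Multiset.count_eq_zero]
            exact fun hm => (hfac Q hm).elim (fun e => h e.symm) hQ
      have hprod : P = (X - C 1) ^ s.count (X - C 1) * ∏ y : T, (y : F[X]) ^ a y := by
        conv_lhs => rw [← hPm.normalize_eq_self,
          ← UniqueFactorizationMonoid.prod_normalizedFactors_eq hPm.ne_zero, ← hs, hsplit]
        rw [Multiset.prod_add, Multiset.prod_replicate, Multiset.prod_sum]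
        simp [Multiset.prod_replicate]
      have hdegP : n = s.count (X - C 1) + i * ∑ y, a y := by
        have h := congrArg natDegree hprod
        rw [Matrix.charpoly_natDegree_eq_dim, Fintype.card_fin,
          ((monic_X_sub_C (1 : F)).pow _).natDegree_mul
            (monic_prod_of_monic _ _ fun y _ => ((hT _ y.2).2.1).pow _),
          natDegree_prod_of_monic _ _ (fun y _ => ((hT _ y.2).2.1).pow _), natDegree_pow,
          natDegree_X_sub_C, mul_one] at h
        simp only [natDegree_pow] at h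
        rw [show ∑ y : T, a y * (y : F[X]).natDegree = i * ∑ y, a y by
          rw [Finset.mul_sum]; exact Finset.sum_congr rfl fun y _ => by rw [hdeg _ y.2, mul_comm]] at h
        exact h
      have haA : ∑ y, a y ≤ n / i := by
        rw [Nat.le_div_iff_mul_le hi0, mul_comm]; omega
      have hpoly : polyOf T i n a = P := by
        rw [hprod, polyOf, show n - i * ∑ y, a y = s.count (X - C 1) by omega]
      have ha0 : (⟨a, haA⟩ : A).1 ≠ 0 := fun h0 => by
        have h1 : IsConj x 1 := Cfsg.Agent.S2387.isConj_of_charpoly (p := p) x 1 hxco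
          (by simp) (by rw [hone, ← hP, ← hpoly, show a = 0 from h0, hzero])
        rw [isConj_one_left.1 h1, orderOf_one] at hx
        exact hr.one_lt.ne hx
      have hinv : ∀ y, a (τ y) = a y := fun y => by
        have hd := hnec x₀ hx₀
        rw [← hxdef, ← hP, ← hpoly, hdual] at hd
        rw [← hcount (fun P => a (τ P)) y, hd, hcount]
      refine ⟨⟨⟨⟨a, haA⟩, ha0⟩, hinv⟩, Subtype.ext (ConjClasses.mk_eq_mk_iff_isConj.2 ?_)⟩
      refine hconj _ _ (hordh _) hx₀ ((hh _).symm.trans ?_)
      refine Cfsg.Agent.S2387.isConj_of_charpoly (p := p) _ x (hg _) hxco ?_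
      rw [hgf]
      exact hpoly
  rw [← Nat.card_congr (Equiv.ofBijective Φmap hbij)]
  have hAcard : Nat.card A = (n / i + t).choose t := by
    rw [card_bounded_sum, Fintype.card_coe, hTcard]
  have : Finite A := Nat.finite_of_card_ne_zero (by
    rw [hAcard]; exact (Nat.choose_pos (Nat.le_add_left t (n / i))).ne')
  let b0 : B := ⟨⟨0, by simp⟩, fun _ => rfl⟩
  let eB : B' ≃ {b : B // ¬ b = b0} :=
    { toFun := fun a => ⟨⟨a.1.1, a.2⟩, fun h => a.1.2 (congrArg (fun b : B => b.1.1) h)⟩
      invFun := fun b => ⟨⟨b.1.1, fun h => b.2 (Subtype.ext (Subtype.ext h))⟩, b.1.2⟩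
      left_inv := fun a => rfl
      right_inv := fun b => rfl }
  haveI : Fintype B := Fintype.ofFinite B
  have hB' : Nat.card B' = Nat.card B - 1 := by
    rw [Nat.card_congr eB, Nat.card_eq_fintype_card, Fintype.card_subtype_compl,
      Fintype.card_subtype_eq, Nat.card_eq_fintype_card]
  rw [hB']
  have hself : ∀ P : T, τ P = P ↔ ∃ k, (q : ZMod r) ^ k = -(Q : ZMod r) := fun P => by
    haveI := hTirr P
    rw [← hF, ← dualPoly_eq_self_iff hσ hQ hr hrp (hT _ P.2).2.1 (hT _ P.2).2.2
      (fun R h1 h2 => (hcycdeg R h1 h2).trans (hdeg _ P.2).symm)]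
    exact ⟨congrArg Subtype.val, fun h => Subtype.ext h⟩
  constructor
  · intro hk
    rw [hF] at hk
    rw [show Nat.card B = Nat.card A from
      Nat.card_congr (Equiv.subtypeUnivEquiv fun a x => by rw [(hself x).2 hk]), hAcard]
  · intro hk
    rw [hF] at hk
    rw [show Nat.card B = Nat.card {a : T → ℕ // ∑ x, a x ≤ n / i ∧ ∀ x, a (τ x) = a x} from
      Nat.card_congr (Equiv.subtypeSubtypeEquivSubtypeInter (fun a : T → ℕ => ∑ x, a x ≤ n / i)
        (fun a : T → ℕ => ∀ x, a (τ x) = a x)),
      card_invariant τ hτ (fun x h => hk ((hself x).1 h)), Fintype.card_coe, hTcard,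
      Nat.div_div_eq_div_mul, mul_comm i 2]

end Cfsg.Agent.DualClassCount
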