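import Cfsg.Agent.Lib.DualClassCount.SpRealize

/-!
Every self-dual product of factors of `X ^ r - 1` of even degree is realised by a symplectic isometry.
-/

set_option autoImplicit false

namespace Cfsg.Agent.DualClassCount

open Polynomial FormTorus

variable {F : Type*} [Field F] [Fintype F] {p r : ℕ} [Fact p.Prime] [CharP F p]

/-- A non-trivial irreducible factor with its dual. -/
theorem spReal_factor (hr : r.Prime) (hr2 : r ≠ 2) (hrp : r ≠ p) {P : F[X]} (hirr : Irreducible P)
    (hm : P.Monic) (hP : P ∣ cyclotomic r F) :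
    (dualPoly (RingHom.id F) P = P → SpReal r P ∧ Even P.natDegree) ∧
      SpReal r (P * dualPoly (RingHom.id F) P) ∧
      Irreducible (dualPoly (RingHom.id F) P) := by
  classical
  haveI := Fact.mk hirr
  haveI := Fact.mk hr
  haveI : Module.Finite F (AdjoinRoot P) := hm.finite_adjoinRoot
  haveI : Finite (AdjoinRoot P) := Module.finite_of_finite F
  obtain ⟨f₀, -, hcard⟩ := FiniteField.card F p
  have hco : p.Coprime r := (Nat.coprime_primes Fact.out hr).2 (Ne.symm hrp)
  have hdeg : ∀ R : F[X], Irreducible R → R ∣ cyclotomic r F → R.natDegree = P.natDegree := fun R hR hd => by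
    rw [natDegree_of_dvd_cyclotomic_of_irreducible (K := F) (f := (f₀ : ℕ)) hcard hco hd hR,
      natDegree_of_dvd_cyclotomic_of_irreducible (K := F) (f := (f₀ : ℕ)) hcard hco hP hirr]
  have hσ : ∀ c : F, (RingHom.id F) c = c ^ 1 := fun c => (pow_one c).symm
  have hQ : 1 = p ^ 0 := (pow_zero p).symm
  obtain ⟨hd, hdvd⟩ := dualPoly_eq_minpoly hσ hQ hr hrp hm hP hdeg
  rw [pow_one] at hd hdvd
  set lam := AdjoinRoot.root P with hlam
  have ho : orderOf lam = r := root_facts hr hrp hP
  have hpow : lam ^ r = 1 := ho ▸ pow_orderOf_eq_one lam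
  have hl0 : lam ≠ 0 := fun h => by
    rw [h, zero_pow hr.ne_zero] at hpow
    exact zero_ne_one hpow
  have hirr' : Irreducible (minpoly F lam⁻¹) := minpoly.irreducible (IsIntegral.of_finite F _)
  have hfin : Module.finrank F (AdjoinRoot P) = P.natDegree := by
    rw [PowerBasis.finrank (AdjoinRoot.powerBasis hirr.ne_zero), AdjoinRoot.powerBasis_dim]
  have hd1 : (minpoly F lam).natDegree = Module.finrank F (AdjoinRoot P) := by
    rw [minpoly_root hm, hfin]
  refine ⟨fun hs => ?_, ?_, hd ▸ hirr'⟩
  · obtain ⟨k, hk⟩ := (dualPoly_eq_self_iff hσ hQ hr hrp hm hP hdeg).1 hs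
    let τ : AdjoinRoot P ≃ₐ[F] AdjoinRoot P :=
      FiniteField.frobeniusAlgEquivOfAlgebraic F (AdjoinRoot P) ^ k
    have hτl : τ lam = lam⁻¹ := by
      show (FiniteField.frobeniusAlgEquivOfAlgebraic F (AdjoinRoot P) ^ k) lam = _
      rw [AlgEquiv.coe_pow, FiniteField.coe_frobeniusAlgEquivOfAlgebraic_iterate]
      show lam ^ (Fintype.card F ^ k) = _
      rw [← mul_eq_one_iff_eq_inv₀ hl0, ← pow_succ, ← orderOf_dvd_iff_pow_eq_one, ho,
        ← ZMod.natCast_eq_zero_iff, Nat.cast_add, Nat.cast_pow, hk]
      simp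
    have hττ : ∀ a, τ (τ a) = a := by
      intro a
      have h : (τ : AdjoinRoot P →ₐ[F] AdjoinRoot P).comp τ = AlgHom.id F _ := by
        refine AdjoinRoot.algHom_ext ?_
        show τ (τ lam) = lam
        rw [hτl, map_inv₀, hτl, inv_inv]
      exact AlgHom.congr_fun h a
    have hne : τ lam ≠ lam := fun h => by
      rw [hτl, eq_comm, ← mul_eq_one_iff_eq_inv₀ hl0, ← sq, ← orderOf_dvd_iff_pow_eq_one, ho] at h
      exact hr2 ((Nat.prime_dvd_prime_iff_eq hr Nat.prime_two).1 h)
    refine ⟨?_, ?_⟩
    · rw [← minpoly_root hm]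
      exact exists_field lam hpow hl0 hd1 τ hττ (by rw [hτl, inv_mul_cancel₀ hl0]) hne
    · rw [even_iff_two_dvd, ← hfin, ← IsGalois.card_aut_eq_finrank]
      have h2 : orderOf τ = 2 := orderOf_eq_prime (AlgEquiv.ext fun a => by
        rw [pow_two]; exact hττ a) (fun h => hne (by rw [h]; rfl))
      rw [← h2]
      exact orderOf_dvd_natCard τ
  · rw [hd]
    conv => arg 2; arg 1; rw [← minpoly_root hm]
    exact exists_pair hr.pos lam hpow hd1 ((hdeg _ hirr' hdvd).trans hfin.symm)

omit [Fintype F] in
theorem dual_cancel {g h : F[X]} (hg : dualPoly (RingHom.id F) g = g) (hg0 : g ≠ 0)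
    (hgh : dualPoly (RingHom.id F) (g * h) = g * h) : dualPoly (RingHom.id F) h = h := by
  rw [dualPoly_mul, hg] at hgh
  exact mul_left_cancel₀ hg0 hgh

theorem spReal_of_dual (hr : r.Prime) (hr2 : r ≠ 2) (hrp : r ≠ p) :
    ∀ (d : ℕ) (f : F[X]), f.natDegree ≤ d → f.Monic → Even f.natDegree →
      dualPoly (RingHom.id F) f = f → (∀ R : F[X], Irreducible R → R ∣ f → R ∣ X ^ r - 1) →
      SpReal r f := by
  classical
  intro d
  induction d with
  | zero =>
    intro f hd hm _ _ _
    rw [Polynomial.eq_one_of_monic_natDegree_zero hm (Nat.le_zero.1 hd)]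
    exact spReal_one
  | succ d ih =>
    intro f hd hm hev hdual hfac
    haveI := Fact.mk hr
    by_cases hP : ∃ R : F[X], Irreducible R ∧ R.Monic ∧ R ∣ f ∧ R ∣ cyclotomic r F
    · obtain ⟨P, hirr, hPm, hPf, hPc⟩ := hP
      obtain ⟨hself, hpair, hirr'⟩ := spReal_factor hr hr2 hrp hirr hPm hPc
      have hP0 : P.coeff 0 ≠ 0 := fun h => by
        obtain ⟨c, hc⟩ := hPc
        have h2 := cyclotomic_coeff_zero F hr.one_lt
        rw [hc, mul_coeff_zero, h, zero_mul] at h2
        exact zero_ne_one h2
      have hσσ : ∀ a : F, (RingHom.id F) ((RingHom.id F) a) = a := fun _ => rfl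
      have step : ∀ g : F[X], g.Monic → g ∣ f → 0 < g.natDegree → Even g.natDegree →
          dualPoly (RingHom.id F) g = g → SpReal r g → SpReal r f := by
        intro g hgm hgf hgpos hgev hgd hgr
        obtain ⟨h, rfl⟩ := hgf
        have hhm : h.Monic := hgm.of_mul_monic_left hm
        rw [hgm.natDegree_mul hhm] at hd hev
        refine spReal_mul hgr (ih h (by omega) hhm ((Nat.even_add.1 hev).1 hgev)
          (dual_cancel hgd hgm.ne_zero hdual) fun R hR hRh => hfac R hR (hRh.mul_left g))
      by_cases hs : dualPoly (RingHom.id F) P = P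
      · exact step P hPm hPf hirr.natDegree_pos (hself hs).2 hs (hself hs).1
      · have hdm := monic_dualPoly (σ := RingHom.id F) hP0
        have hcop : IsCoprime P (dualPoly (RingHom.id F) P) := by
          refine (hirr.coprime_iff_not_dvd).2 fun h => hs ?_
          exact (eq_of_monic_of_associated hPm hdm (hirr.associated_of_dvd hirr' h)).symm
        have hdf : dualPoly (RingHom.id F) P ∣ f := by
          obtain ⟨c, hc⟩ := hPf
          exact ⟨dualPoly (RingHom.id F) c, by rw [← dualPoly_mul, ← hc, hdual]⟩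
        refine step _ (hPm.mul hdm) (hcop.mul_dvd hPf hdf) ?_ ?_ ?_ hpair
        · rw [hPm.natDegree_mul hdm]; have := hirr.natDegree_pos; omega
        · rw [hPm.natDegree_mul hdm, natDegree_dualPoly hP0]; exact ⟨_, rfl⟩
        · rw [dualPoly_mul, dualPoly_dualPoly hσσ hPm hP0, mul_comm]
    · have hall : ∀ R ∈ UniqueFactorizationMonoid.normalizedFactors f, R = X - C 1 := by
        intro R hR
        have hirr := UniqueFactorizationMonoid.irreducible_of_normalized_factor R hR
        have hRm : R.Monic := by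
          rw [← UniqueFactorizationMonoid.normalize_normalized_factor R hR]
          exact monic_normalize hirr.ne_zero
        have hRf := UniqueFactorizationMonoid.dvd_of_mem_normalizedFactors hR
        have h := hfac R hirr hRf
        rw [← cyclotomic_prime_mul_X_sub_one F r] at h
        rcases hirr.prime.dvd_or_dvd h with h | h
        · exact absurd ⟨R, hirr, hRm, hRf, h⟩ hP
        · exact eq_of_monic_of_associated hRm (monic_X_sub_C _)
            (hirr.associated_of_dvd (irreducible_X_sub_C _) (by rwa [map_one]))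
      have hf : f = (X - C 1) ^ (UniqueFactorizationMonoid.normalizedFactors f).card := by
        conv_lhs => rw [← hm.normalize_eq_self, ← UniqueFactorizationMonoid.prod_normalizedFactors_eq hm.ne_zero,
          Multiset.eq_replicate_card.2 hall, Multiset.prod_replicate]
      rw [hf, natDegree_pow, natDegree_X_sub_C, mul_one] at hev
      obtain ⟨k, hk⟩ := hev
      rw [hf, hk, ← two_mul, pow_mul]
      exact spReal_pow (spReal_X_sub_one_sq hr.pos) k

end Cfsg.Agent.DualClassCount
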