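import Cfsg.Agent.Lib.DualClassCount.Basic
import Cfsg.Agent.Lib.FormTorus.Realize

/-!
Symplectic isometries of prime order with prescribed self-dual characteristic polynomial.
-/

set_option autoImplicit false

namespace Cfsg.Agent.DualClassCount

open Polynomial FormTorus FormsLib



section

variable {F : Type*} [Field F]

/-- `f` is the characteristic polynomial of a symplectic isometry `g` with `g ^ r = 1`. -/
def SpReal (r : ℕ) (f : F[X]) : Prop :=
  ∃ (n : ℕ) (B : LinearMap.BilinForm F (Fin n → F)) (g : (Fin n → F) ≃ₗ[F] (Fin n → F)),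
    LinearMap.IsAlt B ∧ LinearMap.Nondegenerate B ∧ Preserves B g ∧ en g ^ r = 1 ∧
      (g : (Fin n → F) →ₗ[F] (Fin n → F)).charpoly = f

theorem nondeg_of_left {V : Type*} [AddCommGroup V] [Module F V] {B : LinearMap.BilinForm F V}
    (hA : LinearMap.IsAlt B) (h : ∀ v, (∀ w, B v w = 0) → v = 0) : LinearMap.Nondegenerate B :=
  ⟨h, fun v hv => h v fun w => by rw [← hA.neg, hv w, neg_zero]⟩

theorem spReal_of_form {V : Type*} [AddCommGroup V] [Module F V] [FiniteDimensional F V] {r : ℕ}
    {B : LinearMap.BilinForm F V} (hA : LinearMap.IsAlt B) (hB : LinearMap.Nondegenerate B)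
    {g : V ≃ₗ[F] V} (hg : Preserves B g) (hr : en g ^ r = 1) :
    SpReal r (g : V →ₗ[F] V).charpoly := by
  let e : V ≃ₗ[F] (Fin (Module.finrank F V) → F) := (Module.finBasis F V).equivFun
  let B' : LinearMap.BilinForm F (Fin (Module.finrank F V) → F) :=
    B.compl₁₂ (e.symm : _ →ₗ[F] V) (e.symm : _ →ₗ[F] V)
  have happ : ∀ u v, B' u v = B (e.symm u) (e.symm v) := fun u v => rfl
  have hA' : LinearMap.IsAlt B' := fun v => hA _
  refine ⟨_, B', (e.symm.trans g).trans e, hA', nondeg_of_left hA' fun v hv => ?_, fun u v => ?_, ?_, ?_⟩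
  · rw [← e.apply_symm_apply v, hB.1 (e.symm v) fun w => ?_, map_zero]
    simpa [happ] using hv (e w)
  · rw [happ, happ]
    simpa using hg (e.symm u) (e.symm v)
  · have h : en ((e.symm.trans g).trans e) = e.conjAlgEquiv F (en g) := LinearMap.ext fun v => rfl
    rw [h, ← map_pow, hr, map_one]
  · exact e.charpoly_conj (g : V →ₗ[F] V)

theorem spReal_mul {r : ℕ} {f₁ f₂ : F[X]} (h₁ : SpReal r f₁) (h₂ : SpReal r f₂) : SpReal r (f₁ * f₂) := by
  obtain ⟨n₁, B₁, g₁, hA₁, hB₁, hg₁, hr₁, hc₁⟩ := h₁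
  obtain ⟨n₂, B₂, g₂, hA₂, hB₂, hg₂, hr₂, hc₂⟩ := h₂
  have hA : LinearMap.IsAlt (prodB (RingHom.id F) B₁ B₂) := fun v => by
    rw [prodB_apply, hA₁, hA₂, add_zero]
  have hB := nondeg_of_left hA fun v hv => Prod.ext (hB₁.1 _ fun w => by
    simpa [prodB_apply] using hv (w, 0)) (hB₂.1 _ fun w => by simpa [prodB_apply] using hv (0, w))
  have hpow : ∀ (j : ℕ) v, (en (g₁.prodCongr g₂) ^ j) v = ((en g₁ ^ j) v.1, (en g₂ ^ j) v.2) := by
    intro j
    induction j with
    | zero => intro v; rfl
    | succ j ih =>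
      intro v
      rw [pow_succ, pow_succ, pow_succ, Module.End.mul_apply, ih]
      rfl
  have hch : (g₁.prodCongr g₂).toLinearMap.charpoly = f₁ * f₂ := by
    rw [← hc₁, ← hc₂, ← LinearMap.charpoly_prodMap]
    rfl
  rw [← hch]
  exact spReal_of_form hA hB (preserves_prodCongr hg₁ hg₂) (LinearMap.ext fun v => by
    rw [hpow, hr₁, hr₂]; rfl)

theorem spReal_one {r : ℕ} : SpReal r (1 : F[X]) := by
  refine ⟨0, 0, LinearEquiv.refl F _, fun v => rfl, nondeg_of_left (fun v => rfl) fun v _ => Subsingleton.elim _ _,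
    fun u v => rfl, LinearMap.ext fun v => Subsingleton.elim _ _, ?_⟩
  refine Polynomial.eq_one_of_monic_natDegree_zero (LinearMap.charpoly_monic ((LinearEquiv.refl F (Fin 0 → F)) : (Fin 0 → F) →ₗ[F] (Fin 0 → F))) ?_
  rw [LinearMap.charpoly_natDegree, Module.finrank_fin_fun]

theorem spReal_pow {r : ℕ} {f : F[X]} (h : SpReal r f) : ∀ k, SpReal r (f ^ k)
  | 0 => by rw [pow_zero]; exact spReal_one
  | k + 1 => by rw [pow_succ]; exact spReal_mul (spReal_pow h k) h

theorem spReal_prod {r : ℕ} {ι : Type*} (s : Finset ι) (f : ι → F[X]) (h : ∀ i ∈ s, SpReal r (f i)) :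
    SpReal r (∏ i ∈ s, f i) :=
  Finset.prod_induction f (SpReal r) (fun _ _ => spReal_mul) spReal_one h

/-- Multiplication by a generator has its minimal polynomial as characteristic polynomial. -/
theorem charpoly_mulLeft {K : Type*} [Field K] [Algebra F K] [Module.Finite F K] (y : K)
    (hy : (minpoly F y).natDegree = Module.finrank F K) :
    (LinearMap.mulLeft F y).charpoly = minpoly F y := by
  refine (eq_of_monic_of_dvd_of_natDegree_le (minpoly.monic (IsIntegral.of_finite F y))
    (LinearMap.charpoly_monic (LinearMap.mulLeft F y)) (minpoly.dvd F y ?_) ?_)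
  · have h := LinearMap.aeval_self_charpoly (LinearMap.mulLeft F y)
    rw [show LinearMap.mulLeft F y = Algebra.lmul F K y from rfl, aeval_algHom_apply] at h
    have h2 := LinearMap.congr_fun h 1
    rw [show LinearMap.mulLeft F y = Algebra.lmul F K y from rfl]
    simpa using h2
  · rw [LinearMap.charpoly_natDegree, hy]

theorem exists_pair {r : ℕ} (hr : 0 < r) {K : Type*} [Field K] [Algebra F K] [Finite K] [Finite F]
    (y : K) (hy : y ^ r = 1) (hd : (minpoly F y).natDegree = Module.finrank F K)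
    (hd' : (minpoly F y⁻¹).natDegree = Module.finrank F K) :
    SpReal r (minpoly F y * minpoly F y⁻¹) := by
  haveI : Module.Finite F K := Module.Finite.of_finite
  have hy0 : y ≠ 0 := fun h => by rw [h, zero_pow hr.ne'] at hy; exact zero_ne_one hy
  have hτ : ∀ c, (RingHom.id K) (algebraMap F K c) = algebraMap F K ((RingHom.id F) c) := fun c => rfl
  have hss : ∀ c : F, (RingHom.id F) ((RingHom.id F) c) = c := fun c => rfl
  set B := pairB (RingHom.id F) (-1 : F) (RingHom.id K) hτ hss with hB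
  have hA : LinearMap.IsAlt B := fun v => by
    rw [hB, pairB_apply]; simp
  have hN := nondeg_of_left hA (pairB_isFlip (RingHom.id F) (-1 : F) (RingHom.id K) hτ hss (by simp)).nondeg
  let g : (K × K) ≃ₗ[F] (K × K) :=
    ((LinearEquiv.smulOfUnit (Units.mk0 y hy0)).restrictScalars F).prodCongr
      ((LinearEquiv.smulOfUnit (Units.mk0 y hy0)⁻¹).restrictScalars F)
  have hg : (g : K × K →ₗ[F] K × K) = (LinearMap.mulLeft F y).prodMap (LinearMap.mulLeft F y⁻¹) := by
    refine LinearMap.ext fun v => ?_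
    show (((Units.mk0 y hy0 : Kˣ) : K) * v.1, ((Units.mk0 y hy0)⁻¹ : Kˣ).val * v.2) = _
    simp
  have hpow : ∀ (j : ℕ) (v : K × K), (en g ^ j) v = (y ^ j * v.1, (y⁻¹) ^ j * v.2) := by
    intro j
    induction j with
    | zero => intro v; simp
    | succ j ih =>
      intro v
      rw [pow_succ, Module.End.mul_apply, ih, show en g v = (y * v.1, y⁻¹ * v.2) from LinearMap.congr_fun hg v]
      simp only [pow_succ, mul_assoc]
  rw [← charpoly_mulLeft y hd, ← charpoly_mulLeft y⁻¹ hd', ← LinearMap.charpoly_prodMap, ← hg]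
  refine spReal_of_form hA hN (fun u v => ?_) (LinearMap.ext fun v => by
    rw [hpow, inv_pow, hy, inv_one, one_mul, one_mul]; rfl)
  have h1 : ∀ w, g w = (y * w.1, y⁻¹ * w.2) := fun w => LinearMap.congr_fun hg w
  rw [h1, h1]
  exact pairB_mul (RingHom.id F) (-1) (RingHom.id K) hτ hss y y⁻¹ (mul_inv_cancel₀ hy0) u v

theorem exists_field {r : ℕ} {K : Type*} [Field K] [Algebra F K] [Finite K] [Finite F]
    (y : K) (hy : y ^ r = 1) (hy0 : y ≠ 0) (hd : (minpoly F y).natDegree = Module.finrank F K)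
    (τ : K ≃ₐ[F] K) (hττ : ∀ a, τ (τ a) = a) (hτy : τ y * y = 1) (hne : τ y ≠ y) :
    SpReal r (minpoly F y) := by
  haveI : Module.Finite F K := Module.Finite.of_finite
  have hτ : ∀ c, (τ : K →+* K) (algebraMap F K c) = algebraMap F K ((RingHom.id F) c) := fun c => τ.commutes c
  have htr : ∀ z, Algebra.trace F K (τ z) = Algebra.trace F K z :=
    fun z => Algebra.trace_eq_of_algEquiv τ z
  set δ := y - τ y with hδ
  set B := fieldB (RingHom.id F) (τ : K →+* K) hτ δ with hB
  have hA : LinearMap.IsAlt B := fun v => by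
    rw [hB, fieldB_apply]
    show Algebra.trace F K ((y - τ y) * τ v * v) = 0
    rw [show (y - τ y) * τ v * v = y * (τ v * v) - τ (y * (τ v * v)) by
      rw [map_mul, map_mul, hττ]; ring, map_sub, htr, sub_self]
  have hN := nondeg_of_left hA (fieldB_isFlip (RingHom.id F) (-1 : F) (τ : K →+* K) hτ
    (fun z => htr z) hττ δ (by
      show algebraMap F K (-1) * τ (y - τ y) = y - τ y
      rw [map_sub, hττ, map_neg, map_one]; ring) (sub_ne_zero.2 hne.symm)).nondeg
  let g : K ≃ₗ[F] K := (LinearEquiv.smulOfUnit (Units.mk0 y hy0)).restrictScalars F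
  have hpow : ∀ (j : ℕ) (v : K), (en g ^ j) v = y ^ j * v := by
    intro j
    induction j with
    | zero => intro v; simp
    | succ j ih =>
      intro v
      rw [pow_succ, Module.End.mul_apply, ih]
      show y ^ j * (y * v) = _
      rw [pow_succ, mul_assoc]
  rw [← charpoly_mulLeft y hd, show LinearMap.mulLeft F y = (g : K →ₗ[F] K) from LinearMap.ext fun v => rfl]
  exact spReal_of_form hA hN (fun u v => fieldB_mul (RingHom.id F) (τ : K →+* K) hτ δ y hτy u v)
    (LinearMap.ext fun v => by rw [hpow, hy, one_mul]; rfl)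

theorem spReal_X_sub_one_sq {r : ℕ} (hr : 0 < r) [Finite F] : SpReal r ((X - C 1 : F[X]) ^ 2) := by
  have h := exists_pair (F := F) (K := F) hr (1 : F) (one_pow r)
    (by rw [minpoly.one, ← map_one C, natDegree_X_sub_C, Module.finrank_self])
    (by rw [inv_one, minpoly.one, ← map_one C, natDegree_X_sub_C, Module.finrank_self])
  rwa [inv_one, ← sq, minpoly.one, ← map_one C] at h

end

end Cfsg.Agent.DualClassCount
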